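import Groth.Agent.L24.DimOne.AffineFinset

/-!
Finitely many points with Noetherian local rings of dimension at most one lie in an affine open of a
separated scheme with locally finitely many irreducible components.
-/

set_option autoImplicit false
set_option linter.style.haveILetI false
set_option backward.isDefEq.respectTransparency.types false
set_option backward.isDefEq.respectTransparency false

universe u

open CategoryTheory AlgebraicGeometry TopologicalSpace Opposite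

namespace Groth.L22.AffFin

open Groth.L21.Extend Groth.L22.PicGlue Groth.L22.FinAff Groth.L22.DimOneAmple Groth.L24.DimOne

variable {X : Scheme.{u}}

theorem finite_isGen' (hfin : (irreducibleComponents X).Finite) : {η : X | IsGen η}.Finite :=
  Set.Finite.of_finite_image
    (hfin.subset (Set.image_subset_iff.2 fun η hη => closure_mem_of_isGen hη))
    fun _ _ _ _ h => closure_isGen_inj h

theorem inf_affine_eq' (W N : X.Opens) : W.ι ''ᵁ (W.ι ⁻¹ᵁ N) = W ⊓ N := by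
  rw [Scheme.Hom.image_preimage_eq_opensRange_inf, Scheme.Opens.opensRange_ι]

theorem isAffineHom_ι [X.IsSeparated] {U : X.Opens} (hU : IsAffineOpen U) : IsAffineHom U.ι := by
  refine isAffineHom_of_forall_exists_isAffineOpen _ fun y => ?_
  obtain ⟨_, ⟨N, hN, rfl⟩, hyN, -⟩ :=
    X.isBasis_affineOpens.exists_subset_of_mem_open (Set.mem_univ y) isOpen_univ
  refine ⟨N, hyN, hN, ?_⟩
  rw [← Scheme.Hom.isAffineOpen_iff_of_isOpenImmersion U.ι, inf_affine_eq']
  exact hU.inf hN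

theorem isCompact_inf [X.IsSeparated] {U V : X.Opens} (hU : IsAffineOpen U) (hV : IsAffineOpen V) :
    IsCompact ((U ⊓ V : X.Opens) : Set X) := by
  haveI : QuasiSeparatedSpace X := inferInstance
  rw [Opens.coe_inf]
  exact QuasiSeparatedSpace.inter_isCompact _ _ U.isOpen hU.isCompact V.isOpen hV.isCompact

theorem germ_isUnit_of_mul' {W : X.Opens} {a b : Γ(X, W)} (h : a * b = 1) {y : X} (hy : y ∈ W) :
    y ∈ X.basicOpen a := by
  rw [X.basicOpen_of_isUnit (IsUnit.of_mul_eq_one b h)]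
  exact hy

/-- Near a punctured point, a function vanishing there vanishes outside the open. -/
theorem exists_shrink {x : X} {V : X.Opens} (hV : IsAffineOpen V) (hxV : x ∈ V) (f : Γ(X, V)) (M : X.Opens)
    (hVf : X.basicOpen f = V ⊓ M) (hgenM : ∀ y, y ⤳ x → y ≠ x → y ∈ M)
    {N₀ : X.Opens} (hNV : N₀ ≤ V) (hxN : x ∈ N₀) (φ : Γ(X, N₀)) (hφ : x ∉ X.basicOpen φ) :
    ∃ N : X.Opens, x ∈ N ∧ ∃ h : N ≤ N₀, ∀ y ∈ N, y ∉ M → y ∉ X.basicOpen (rO X h φ) := by
  set fz := X.presheaf.germ V x hxV f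
  have hrad : X.presheaf.germ N₀ x hxN φ ∈ (Ideal.span {fz}).radical := by
    rw [Ideal.radical_eq_sInf, Submodule.mem_sInf]
    rintro Q ⟨hQ, hQp⟩
    let q : PrimeSpectrum (X.presheaf.stalk x) := ⟨Q, hQp⟩
    have hy : X.fromSpecStalk x q ⤳ x := by
      have h : X.fromSpecStalk x q ∈ Set.range (X.fromSpecStalk x) := ⟨q, rfl⟩
      rwa [Scheme.range_fromSpecStalk] at h
    have he : X.fromSpecStalk x q = x := by
      by_contra hne
      have hmem : X.fromSpecStalk x q ∈ X.basicOpen f :=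
        hVf.ge ⟨hy.mem_open V.isOpen hxV, hgenM _ hy hne⟩
      rw [← hV.fromSpecStalk_eq_fromSpecStalk hxV, IsAffineOpen.fromSpecStalk, Scheme.Hom.comp_apply,
        ← Scheme.Hom.mem_preimage, hV.fromSpec_preimage_basicOpen] at hmem
      exact hmem (hQ (Ideal.mem_span_singleton_self _))
    have hq : q = IsLocalRing.closedPoint (X.presheaf.stalk x) :=
      (X.fromSpecStalk x).isEmbedding.injective (he.trans Scheme.fromSpecStalk_closedPoint.symm)
    have hQm : Q = IsLocalRing.maximalIdeal (X.presheaf.stalk x) := congrArg PrimeSpectrum.asIdeal hq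
    rw [hQm]
    exact fun hu => hφ ((X.mem_basicOpen φ x hxN).2 hu)
  obtain ⟨n, hn⟩ := hrad
  obtain ⟨a, ha⟩ := Ideal.mem_span_singleton'.1 hn
  obtain ⟨W, hxW, b, rfl⟩ := X.presheaf.exists_germ_eq (x := x) a
  let D := W ⊓ N₀
  have hxD : x ∈ D := ⟨hxW, hxN⟩
  have heq : X.presheaf.germ D x hxD (rO X inf_le_left b * rO X (inf_le_right.trans hNV) f) =
      X.presheaf.germ D x hxD (rO X inf_le_right φ ^ n) := by
    rw [map_mul, map_pow, TopCat.Presheaf.germ_res_apply, TopCat.Presheaf.germ_res_apply,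
      TopCat.Presheaf.germ_res_apply]
    exact ha
  obtain ⟨N, hxN', i₁, i₂, he⟩ := TopCat.Presheaf.germ_eq X.presheaf x hxD hxD _ _ heq
  refine ⟨N, hxN', i₁.le.trans inf_le_right, fun y hy hyM hyφ => hyM ?_⟩
  have h1 : rO X i₁.le (rO X inf_le_left b * rO X (inf_le_right.trans hNV) f) =
      rO X i₁.le (rO X inf_le_right φ ^ n) := he
  rw [Groth.L22.PicGlue.rO_mul, rO_rO, rO_rO,
    show rO X i₁.le (rO X inf_le_right φ ^ n) = rO X i₁.le (rO X inf_le_right φ) ^ n from map_pow _ _ _,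
    rO_rO] at h1
  have hy2 : y ∈ X.basicOpen (rO X (i₁.le.trans (inf_le_right.trans hNV)) f) := by
    rcases Nat.eq_zero_or_pos n with h0 | h0
    · rw [h0, pow_zero] at h1
      exact germ_isUnit_of_mul' ((mul_comm _ _).trans h1) hy
    · have h2 : y ∈ X.basicOpen (rO X (i₁.le.trans inf_le_left) b * rO X (i₁.le.trans (inf_le_right.trans hNV)) f) := by
        rw [h1, X.basicOpen_pow _ h0]; exact hyφ
      rw [Scheme.basicOpen_mul] at h2
      exact h2.2
  rw [Scheme.basicOpen_res] at hy2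
  exact (hVf.le hy2.2).2

theorem exists_affine_gen' (hfin : (irreducibleComponents X).Finite) {V : X.Opens} (hV : IsAffineOpen V) :
    ∃ N : X.Opens, IsAffineOpen N ∧ V ≤ N ∧ ∀ η : X, IsGen η → η ∈ N := by
  let G : Set X := {η | IsGen η ∧ η ∉ V}
  have hG : G.Finite := (finite_isGen' hfin).subset fun η hη => hη.1
  have h : ∀ η : G, ∃ W : X.Opens, IsAffineOpen W ∧ η.1 ∈ W ∧ ∀ y ∈ W, ∀ η' : X, IsGen η' → η' ⤳ y → η' = η := by
    intro η
    have hB : IsClosed (⋃ η' ∈ {η' : X | IsGen η'} \ {η.1}, closure ({η'} : Set X)) :=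
      ((finite_isGen' hfin).subset Set.sdiff_subset).isClosed_biUnion fun _ _ => isClosed_closure
    obtain ⟨W, hW, hηW, hWB⟩ := TopologicalSpace.Opens.isBasis_iff_nbhd.1 X.isBasis_affineOpens
      (U := ⟨_, hB.isOpen_compl⟩) (x := η.1) fun h => by
        obtain ⟨η', hη', hc⟩ := Set.mem_iUnion₂.1 h
        exact hη'.2 (η.2.1 η' (specializes_iff_mem_closure.2 hc))
    refine ⟨W, hW, hηW, fun y hy η' hη' hs => ?_⟩
    by_contra hne
    exact hWB hy (Set.mem_iUnion₂.2 ⟨η', ⟨hη', hne⟩, specializes_iff_mem_closure.1 hs⟩)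
  choose W hW hηW hWu using h
  haveI := hG.to_subtype
  have hWd : Pairwise (Function.onFun Disjoint W) := fun η η' hne => by
    show Disjoint (W η) (W η')
    rw [← Opens.coe_disjoint, Set.disjoint_left]
    intro y hy hy'
    obtain ⟨ξ, hξ, hξy⟩ := exists_isGen_specializes y
    exact hne (Subtype.ext ((hWu η y hy ξ hξ hξy).symm.trans (hWu η' y hy' ξ hξ hξy)))
  have hVd : Disjoint V (iSup W) := by
    rw [← Opens.coe_disjoint, Set.disjoint_left]
    intro y hy hy'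
    obtain ⟨η, hη⟩ := Opens.mem_iSup.1 hy'
    obtain ⟨ξ, hξ, hξy⟩ := exists_isGen_specializes y
    exact η.2.2 (hWu η y hη ξ hξ hξy ▸ hξy.mem_open V.isOpen hy)
  refine ⟨V ⊔ iSup W, hV.sup_of_disjoint (.iSup_of_disjoint hW hWd) hVd, le_sup_left, fun η hη => ?_⟩
  by_cases hηV : η ∈ V
  · exact Or.inl hηV
  · exact Or.inr (Opens.mem_iSup.2 ⟨⟨η, hη, hηV⟩, hηW _⟩)

/-- Functions with pure poles at finitely many points and prescribed value `0` or `1` at closed points. -/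
theorem exists_poles_local' [X.IsSeparated] {U : X.Opens}
    (hU : IsAffineOpen U) (Z : Finset X) [∀ z : Z, IsNoetherianRing (X.presheaf.stalk z.1)] (hd : ∀ z : Z, ringKrullDim (X.presheaf.stalk z.1) ≤ 1) (P : ∀ z : Z, Punct U z.1) (Q : Finset X) (hQU : ∀ q ∈ Q, q ∈ U)
    (hQz : ∀ q ∈ Q, ∀ z ∈ Z, ¬ q ⤳ z) (a : Γ(X, U)) (ha : a = 0 ∨ a = 1) :
    ∃ g : Γ(X, U), (∀ q ∈ Q, (q ∈ X.basicOpen g ↔ a = 1) ∧ q ∉ X.basicOpen (g - a)) ∧
      ∀ z : Z, ∃ (M : X.Opens) (φ : Γ(X, M)), z.1 ∈ M ∧ M ≤ (P z).V ∧ z.1 ∉ X.basicOpen φ ∧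
        rO X (inf_le_left : M ⊓ U ≤ M) φ * rO X inf_le_right g = 1 := by
  classical
  haveI : ∀ z : Z, Finite (PrimeSpectrum (P z).R) := fun z => prime_finite (hd z) (P z).fz_mem
  haveI : ∀ (z : Z) (p : PrimeSpectrum (P z).R), Finite (branches (X.presheaf.stalk z.1) p) := fun z p =>
    (finite_branches (hd z) (P z).fz_mem p).1.to_subtype
  obtain ⟨g₁, hgI, hg⟩ := exists_poles_alg
    (ι := Σ z : Z, Σ p : PrimeSpectrum (P z).R, branches (X.presheaf.stalk z.1) p)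
    (fun i => (P i.1).ψ i.2.1) (fun i => i.2.2.1)
    (fun i => (finite_branches (hd i.1) (P i.1).fz_mem i.2.1).2 _ i.2.2.2)
    (fun i => (P i.1).exists_notMem hU (hd _) i.2.1 i.2.2.2)
    (Q.attach.inf fun q => (hU.primeIdealOf ⟨q.1, hQU q.1 q.2⟩).asIdeal)
    (fun i => (P i.1).not_le_ker hU Q hQU (fun q hq => hQz q hq _ i.1.2) i.2.1) a ha
  choose n hn φ hφ hφe using fun z : Z => (P z).exists_inv_pow (hd z) g₁ fun p W hW => hg ⟨z, p, W, hW⟩
  have hM : (∏ z : Z, n z) ≠ 0 := Finset.prod_ne_zero_iff.2 fun z _ => (zero_lt_one.trans_le (hn z)).ne'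
  refine ⟨g₁ ^ (∏ z : Z, n z), fun q hq => ?_, fun z => ?_⟩
  · rw [X.basicOpen_pow _ (Nat.pos_of_ne_zero hM)]
    have hmem : g₁ - a ∈ (hU.primeIdealOf ⟨q, hQU q hq⟩).asIdeal :=
      Finset.inf_le (f := fun q => (hU.primeIdealOf ⟨q.1, hQU q.1 q.2⟩).asIdeal) (Q.mem_attach ⟨q, hq⟩) hgI
    refine ⟨⟨fun h => ?_, fun h1 => ?_⟩, (primeIdealOf_eq_comap hU (hQU q hq) _).1 ?_⟩
    · refine ha.resolve_left fun h0 => ?_
      rw [h0, sub_zero] at hmem
      exact (primeIdealOf_eq_comap hU (hQU q hq) g₁).1 hmem h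
    · by_contra hn'
      have h2 := sub_mem ((primeIdealOf_eq_comap hU (hQU q hq) g₁).2 hn') hmem
      rw [sub_sub_cancel, h1] at h2
      exact (hU.primeIdealOf _).2.ne_top ((Ideal.eq_top_iff_one _).2 h2)
    · obtain ⟨w, hw⟩ := sub_dvd_pow_sub_pow g₁ a (∏ z : Z, n z)
      have haM : a ^ (∏ z : Z, n z) = a := by
        rcases ha with rfl | rfl
        · exact zero_pow hM
        · exact one_pow _
      rw [← haM, hw]
      exact Ideal.mul_mem_right _ _ hmem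
  · obtain ⟨k, hk⟩ : n z ∣ ∏ z : Z, n z := Finset.dvd_prod_of_mem n (Finset.mem_univ z)
    have hk0 : k ≠ 0 := fun h => hM (by rw [hk, h, mul_zero])
    obtain ⟨M', φ', h1, h2, h3, h4⟩ := (P z).spread (g₁ ^ (∏ z : Z, n z)) (φ := φ z ^ k)
      (Ideal.pow_mem_of_mem _ (hφ z) _ (Nat.pos_of_ne_zero hk0))
      (by rw [map_pow, map_pow, hk, pow_mul, ← mul_pow, hφe, one_pow])
    exact ⟨M', φ', h1, h2, h3, h4⟩

/-- Each of finitely many incomparable points lies in an affine basic open of an open containing all of them. -/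
theorem exists_open_basicOpen' [X.IsSeparated] (hfin : (irreducibleComponents X).Finite) (Ps : Finset X)
    (hnoe : ∀ x ∈ Ps, IsNoetherianRing (X.presheaf.stalk x))
    (hdim : ∀ x ∈ Ps, ringKrullDim (X.presheaf.stalk x) ≤ 1) (hanti : ∀ q ∈ Ps, ∀ z ∈ Ps, q ⤳ z → q = z)
    {z : X} (hz : z ∈ Ps) :
    ∃ (W : X.Opens) (s : Γ(X, W)), (↑Ps ⊆ (W : Set X)) ∧ IsAffineOpen (X.basicOpen s) ∧ z ∈ X.basicOpen s := by
  classical
  obtain ⟨_, ⟨A, hA, rfl⟩, hzA, -⟩ :=
    X.isBasis_affineOpens.exists_subset_of_mem_open (Set.mem_univ z) isOpen_univ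
  obtain ⟨M, hM, hAM, hgenM⟩ := exists_affine_gen' hfin (show IsAffineOpen A from hA)
  haveI : QuasiCompact M.ι := by
    haveI := isAffineHom_ι hM
    infer_instance
  have hproper : ∀ x ∈ Ps, ∀ y, y ⤳ x → y ≠ x → y ∈ M := fun x hx y hy hne =>
    hgenM y (haveI := hnoe x hx; isGen_of_specializes_ne (hdim x hx) hy hne)
  let Q := Ps.filter (· ∈ M)
  let Z := Ps.filter (· ∉ M)
  have hZ : ∀ x : Z, x.1 ∈ Ps ∧ x.1 ∉ M := fun x => Finset.mem_filter.1 x.2
  haveI : ∀ x : Z, IsNoetherianRing (X.presheaf.stalk x.1) := fun x => hnoe _ (hZ x).1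
  have hA' : ∀ x : Z, ∃ B : X.Opens, IsAffineOpen B ∧ x.1 ∈ B ∧ ∀ x' : Z, x' ≠ x → x'.1 ∉ B := by
    intro x
    have hcl : IsClosed (⋃ q ∈ Ps.filter (· ≠ x.1), closure {q}) :=
      (Ps.filter (· ≠ x.1)).finite_toSet.isClosed_biUnion fun q _ => isClosed_closure
    obtain ⟨B, hB, hxB, hBO⟩ := TopologicalSpace.Opens.isBasis_iff_nbhd.1 X.isBasis_affineOpens
      (U := ⟨_, hcl.isOpen_compl⟩) (x := x.1) (fun h => by
        obtain ⟨q, hq, hxq⟩ := Set.mem_iUnion₂.1 h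
        rw [Finset.mem_filter] at hq
        exact hq.2 (hanti q hq.1 x.1 (hZ x).1 (specializes_iff_mem_closure.2 hxq)))
    exact ⟨B, hB, hxB, fun x' hne hx' => hBO hx' (Set.mem_iUnion₂.2 ⟨x'.1,
      Finset.mem_filter.2 ⟨(hZ x').1, fun e => hne (Subtype.ext e)⟩, subset_closure rfl⟩)⟩
  choose B hB hxB hBne using hA'
  have hsep' : ∀ x x' : Z, ∃ O : X.Opens, x.1 ∈ O ∧ O ≤ B x ∧ (x' ≠ x → O ⊓ B x' ≤ M) := by
    intro x x'
    by_cases hne : x' = x
    · exact ⟨B x, hxB x, le_rfl, fun h => (h hne).elim⟩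
    have hcpt : IsCompact ((B x ⊓ B x' : X.Opens) : Set X) := isCompact_inf (hB x) (hB x')
    have hcov : ((B x ⊓ B x' : X.Opens) : Set X) ⊆
        ⋃ b : {b : Γ(X, B x) // X.basicOpen b ≤ B x'}, (X.basicOpen b.1 : Set X) := fun y hy => by
      obtain ⟨b, hb, hyb⟩ := (hB x).exists_basicOpen_le (V := B x') ⟨y, hy.2⟩ hy.1
      exact Set.mem_iUnion.2 ⟨⟨b, hb⟩, hyb⟩
    obtain ⟨F, hF⟩ := hcpt.elim_finite_subcover
      (fun b : {b : Γ(X, B x) // X.basicOpen b ≤ B x'} => (X.basicOpen b.1 : Set X))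
      (fun b => (X.basicOpen b.1).isOpen) hcov
    choose O hxO hOB hOM using fun b : F => exists_nhd_basicOpen_le (hB x) b.1.1 M (hxB x)
      fun y hy hyb => hproper x.1 (hZ x).1 y hy fun e =>
        hBne x' x (fun e' => hne e'.symm) (e ▸ b.1.2 hyb)
    refine ⟨B x ⊓ ⟨⋂ b, (O b : Set X), isOpen_iInter_of_finite fun b => (O b).isOpen⟩,
      ⟨hxB x, Set.mem_iInter.2 hxO⟩, inf_le_left, fun _ y hy => ?_⟩
    obtain ⟨b, hb, hyb⟩ := Set.mem_iUnion₂.1 (hF ⟨hy.1.1, hy.2⟩)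
    exact hOM ⟨b, hb⟩ ⟨Set.mem_iInter.1 hy.1.2 ⟨b, hb⟩, hyb⟩
  choose O' hxO' hOB' hOM' using hsep'
  let O : Z → X.Opens := fun x => B x ⊓ ⟨⋂ x', (O' x x' : Set X), isOpen_iInter_of_finite fun x' => (O' x x').isOpen⟩
  have hOz : ∀ x : Z, x.1 ∈ O x := fun x => ⟨hxB x, Set.mem_iInter.2 (hxO' x)⟩
  have hOO : ∀ x x' : Z, x ≠ x' → O x ⊓ O x' ≤ M := fun x x' hne y hy =>
    hOM' x x' hne.symm ⟨Set.mem_iInter.1 hy.1.2 x', hy.2.1⟩
  choose V f hV hxV hVO hVf using fun x : Z =>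
    exists_puncture' M x.1 (hZ x).2 (O x) (hOz x) (hproper x.1 (hZ x).1) (hdim x.1 (hZ x).1)
  have hQM : ∀ q ∈ Q, q ∈ M := fun q hq => (Finset.mem_filter.1 hq).2
  obtain ⟨g, hgQ, hgz⟩ := exists_poles_local' hM Z (fun x => hdim x.1 (Finset.mem_filter.1 x.2).1)
    (fun x => ⟨V x, hV x, hxV x, (hZ x).2, f x, hVf x⟩) Q hQM (fun q hq x hx hs => by
      rw [Finset.mem_filter] at hq hx
      exact hx.2 (hanti q hq.1 x hx.1 hs ▸ hq.2)) 1 (Or.inr rfl)
  choose N₀ φ₀ hzN₀ hNV₀ hzφ₀ hφ₀ using hgz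
  have hshrink : ∀ x : Z, ∃ N : X.Opens, x.1 ∈ N ∧ ∃ h : N ≤ N₀ x,
      ∀ y ∈ N, y ∉ M → y ∉ X.basicOpen (rO X h (φ₀ x)) := fun x =>
    exists_shrink (hV x) (hxV x) (f x) M (hVf x) (hproper x.1 (hZ x).1) (hNV₀ x) (hzN₀ x) (φ₀ x) (hzφ₀ x)
  choose N hzN hle hNM using hshrink
  let φ : ∀ x : Z, Γ(X, N x) := fun x => rO X (hle x) (φ₀ x)
  have hφ : ∀ x : Z, rO X (inf_le_left : N x ⊓ M ≤ N x) (φ x) * rO X inf_le_right g = 1 := fun x => by
    have h := congrArg (rO X (inf_le_inf_right M (hle x))) (hφ₀ x)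
    simp only [Groth.L22.PicGlue.rO_mul, rO_rO, Groth.L22.PicGlue.rO_one] at h
    simp only [φ, rO_rO]
    exact h
  have hNO : ∀ x : Z, N x ≤ O x := fun x => ((hle x).trans (hNV₀ x)).trans (hVO x)
  have hNN : ∀ x x' : Z, x ≠ x' → N x ⊓ N x' ≤ M := fun x x' hne y hy =>
    hOO x x' hne ⟨hNO x hy.1, hNO x' hy.2⟩
  obtain ⟨v, hv⟩ : ∃ v : Γ(X, X.basicOpen g), v * rO X (X.basicOpen_le g) g = 1 :=
    (RingedSpace.isUnit_res_basicOpen _ g).exists_left_inv
  let W : X.Opens := X.basicOpen g ⊔ ⨆ x : Z, N x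
  have key : ∀ x : Z, rO X (inf_le_left : X.basicOpen g ⊓ N x ≤ _) v = rO X inf_le_right (φ x) := by
    intro x
    have h1 := congrArg (rO X (inf_le_left : X.basicOpen g ⊓ N x ≤ _)) hv
    have h2 := congrArg (rO X (le_inf inf_le_right (inf_le_left.trans (X.basicOpen_le g)) :
      X.basicOpen g ⊓ N x ≤ N x ⊓ M)) (hφ x)
    simp only [Groth.L22.PicGlue.rO_mul, rO_rO, Groth.L22.PicGlue.rO_one] at h1 h2
    exact left_inv_eq_right_inv h1 ((mul_comm _ _).trans h2)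
  have key' : ∀ x x' : Z, rO X (inf_le_left : N x ⊓ N x' ≤ _) (φ x) = rO X inf_le_right (φ x') := by
    intro x x'
    by_cases hne : x = x'
    · subst hne; rfl
    · have h1 := congrArg (rO X (le_inf inf_le_left (hNN x x' hne) : N x ⊓ N x' ≤ N x ⊓ M)) (hφ x)
      have h2 := congrArg (rO X (le_inf inf_le_right (hNN x x' hne) : N x ⊓ N x' ≤ N x' ⊓ M)) (hφ x')
      simp only [Groth.L22.PicGlue.rO_mul, rO_rO, Groth.L22.PicGlue.rO_one] at h1 h2
      exact left_inv_eq_right_inv h1 ((mul_comm _ _).trans h2)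
  obtain ⟨Φ, hΦ⟩ := exists_glue (Coh.structureModule X)
    (fun o : ULift.{u} (Option Z) => o.down.elim (X.basicOpen g) N) W
    (fun o => by
      rcases o with ⟨_ | x⟩
      · exact le_sup_left
      · exact le_trans (le_iSup N x) le_sup_right)
    (fun y hy => hy.elim (fun h => ⟨⟨none⟩, h⟩) fun h => by
      obtain ⟨x, hx⟩ := Opens.mem_iSup.1 h
      exact ⟨⟨some x⟩, hx⟩)
    (fun o => match o with
      | ⟨none⟩ => v
      | ⟨some x⟩ => φ x)
    (by
      rintro ⟨_ | x⟩ ⟨_ | x'⟩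
      · rfl
      · exact key x'
      · show rO X inf_le_left (φ x) = rO X inf_le_right v
        have := congrArg (rO X (le_inf inf_le_right inf_le_left :
          N x ⊓ X.basicOpen g ≤ X.basicOpen g ⊓ N x)) (key x)
        simp only [rO_rO] at this
        exact this.symm
      · exact key' x x')
  let Φ : Γ(X, W) := Φ
  have hΦv : rO X (le_sup_left : X.basicOpen g ≤ W) Φ = v := hΦ ⟨none⟩
  have hΦφ : ∀ x : Z, rO X (le_trans (le_iSup N x) le_sup_right : N x ≤ W) Φ = φ x := fun x => hΦ ⟨some x⟩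
  have hD : X.basicOpen Φ = X.basicOpen g := by
    refine le_antisymm (fun y hy => ?_) fun y hy => ?_
    · rcases X.basicOpen_le Φ hy with h | h
      · exact h
      · obtain ⟨x, hx⟩ := Opens.mem_iSup.1 h
        have h' : y ∈ X.basicOpen (rO X (le_trans (le_iSup N x) le_sup_right : N x ≤ W) Φ) := by
          rw [Scheme.basicOpen_res]; exact ⟨hx, hy⟩
        rw [hΦφ] at h'
        have hyM : y ∈ M := of_not_not fun hn => hNM x y hx hn h'
        have hu := germ_isUnit_of_mul' ((mul_comm _ _).trans (hφ x)) (y := y) ⟨hx, hyM⟩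
        rw [Scheme.basicOpen_res] at hu
        exact hu.2
    · have h := germ_isUnit_of_mul' (a := rO X (le_sup_left : X.basicOpen g ≤ W) Φ)
        (b := rO X (X.basicOpen_le g) g) (by rw [hΦv]; exact hv) hy
      rw [Scheme.basicOpen_res] at h
      exact h.2
  have hgmem : ∀ q ∈ Ps, q ∈ M → q ∈ X.basicOpen g := fun q hq hqM =>
    (hgQ q (Finset.mem_filter.2 ⟨hq, hqM⟩)).1.2 rfl
  refine ⟨W, Φ, fun q hq => ?_, hD ▸ hM.basicOpen g, hD ▸ hgmem z hz (hAM hzA)⟩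
  by_cases hqM : q ∈ M
  · exact Or.inl (hgmem q hq hqM)
  · exact Or.inr (Opens.mem_iSup.2 ⟨⟨q, Finset.mem_filter.2 ⟨hq, hqM⟩⟩, hzN _⟩)

/-- Finitely many points with local rings of dimension at most one lie in an affine open. -/
theorem exists_affine_finset' [X.IsSeparated] (hfin : (irreducibleComponents X).Finite) (Ps : Finset X)
    (hnoe : ∀ x ∈ Ps, IsNoetherianRing (X.presheaf.stalk x))
    (hdim : ∀ x ∈ Ps, ringKrullDim (X.presheaf.stalk x) ≤ 1) :
    ∃ U : X.Opens, IsAffineOpen U ∧ ↑Ps ⊆ (U : Set X) := by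
  classical
  -- the points without a proper specialisation in the set
  let P₀ := Ps.filter fun q => ∀ z ∈ Ps, q ⤳ z → q = z
  have hP₀ : ∀ q ∈ Ps, ∃ z ∈ P₀, q ⤳ z := by
    intro q hq
    by_cases h : q ∈ P₀
    · exact ⟨q, h, specializes_rfl⟩
    · obtain ⟨z, hz, hqz, hne⟩ : ∃ z ∈ Ps, q ⤳ z ∧ q ≠ z := by
        by_contra hn
        push Not at hn
        exact h (Finset.mem_filter.2 ⟨hq, hn⟩)
      refine ⟨z, Finset.mem_filter.2 ⟨hz, fun w hw hzw => ?_⟩, hqz⟩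
      by_contra hne'
      have hg : IsGen z := haveI := hnoe w hw; isGen_of_specializes_ne (hdim w hw) hzw hne'
      exact hne (hg q hqz)
  have hP₀dim : ∀ x ∈ P₀, ringKrullDim (X.presheaf.stalk x) ≤ 1 := fun x hx => hdim x (Finset.mem_filter.1 hx).1
  choose W s hW hs hzs using fun z : P₀ => exists_open_basicOpen' hfin P₀ (fun x hx => hnoe x (Finset.mem_filter.1 hx).1) hP₀dim
    (fun q hq z hz => (Finset.mem_filter.1 hq).2 z (Finset.mem_filter.1 hz).1) z.2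
  let A₀ : X.Opens := ⟨⋂ z : P₀, (W z : Set X), isOpen_iInter_of_finite fun z => (W z).isOpen⟩
  have hA₀ : ∀ q : P₀, q.1 ∈ A₀ := fun q => Set.mem_iInter.2 fun z => hW z q.2
  choose C hC hqC hCA using fun q : P₀ =>
    TopologicalSpace.Opens.isBasis_iff_nbhd.1 X.isBasis_affineOpens (hA₀ q)
  let A : X.Opens := ⨆ q : P₀, C q
  have hAW : ∀ z, A ≤ W z := fun z y hy => by
    obtain ⟨q, hq⟩ := Opens.mem_iSup.1 hy
    exact Set.mem_iInter.1 (hCA q hq) z
  have hAc : IsCompact (A : Set X) := by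
    rw [Opens.coe_iSup]
    exact isCompact_iUnion fun q => (hC q).isCompact
  let t : P₀ → Γ(X, A) := fun z => rO X (hAW z) (s z)
  let B : X.Opens := ⨆ z : P₀, X.basicOpen (t z)
  have ht : ∀ z, X.basicOpen (t z) = A ⊓ X.basicOpen (s z) := fun z => X.basicOpen_res (s z) _
  haveI : QuasiSeparatedSpace X := inferInstance
  haveI : CompactSpace B.toScheme := isCompact_iff_compactSpace.mp (by
    show IsCompact (B : Set X)
    rw [Opens.coe_iSup]
    refine isCompact_iUnion fun z => ?_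
    rw [ht, Opens.coe_inf]
    exact QuasiSeparatedSpace.inter_isCompact _ _ A.isOpen hAc (X.basicOpen (s z)).isOpen (hs z).isCompact)
  have hqa : B.toScheme.IsQuasiAffine := by
    refine Scheme.IsQuasiAffine.of_forall_exists_mem_basicOpen _ fun x => ?_
    obtain ⟨z, hz⟩ := Opens.mem_iSup.1 x.2
    have hBA : (⊤ : B.toScheme.Opens) ≤ B.ι ⁻¹ᵁ A := fun y _ => by
      obtain ⟨z', hz'⟩ := Opens.mem_iSup.1 y.2
      exact X.basicOpen_le (t z') hz'
    let r : Γ(B.toScheme, ⊤) := B.toScheme.presheaf.map (homOfLE hBA).op (B.ι.app A (t z))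
    have hr : B.toScheme.basicOpen r = B.ι ⁻¹ᵁ X.basicOpen (t z) := by
      rw [Scheme.basicOpen_res, ← Scheme.preimage_basicOpen]
      exact inf_eq_right.2 le_top
    have hle : X.basicOpen (t z) ≤ B := le_iSup (fun z => X.basicOpen (t z)) z
    haveI : QuasiSeparatedSpace B.toScheme := quasiSeparatedSpace_of_quasiSeparated B.ι
    have hqa' : IsQuasiSeparated ((⊤ : B.toScheme.Opens) : Set B.toScheme) := isQuasiSeparated_univ
    obtain ⟨a, haz, hxa⟩ := (hs z).exists_basicOpen_le (V := X.basicOpen (t z)) ⟨x.1, hz⟩ ((ht z).le hz).2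
    have haa : IsAffineOpen (B.ι ⁻¹ᵁ X.basicOpen a) :=
      ((hs z).basicOpen a).preimage_of_isOpenImmersion B.ι (by rw [Scheme.Opens.opensRange_ι]; exact haz.trans hle)
    obtain ⟨a', ha'⟩ : ∃ a' : Γ(B.toScheme, B.toScheme.basicOpen r), B.toScheme.basicOpen a' = B.ι ⁻¹ᵁ X.basicOpen a := by
      refine ⟨B.toScheme.presheaf.map (eqToHom hr).op
        ((B.ι.app (X.basicOpen (t z))) (rO X ((ht z).le.trans inf_le_right) a)), ?_⟩
      rw [Scheme.basicOpen_res, hr, ← Scheme.preimage_basicOpen]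
      refine Opens.ext (Set.ext fun y => ?_)
      exact ⟨fun h => ((X.basicOpen_res a _).le h.2).2,
        fun h => ⟨haz h, (X.basicOpen_res a _).ge ⟨haz h, h⟩⟩⟩
    obtain ⟨n, b, hb⟩ := exists_eq_pow_mul_of_isCompact_of_isQuasiSeparated B.toScheme ⊤ isCompact_univ hqa' r a'
    have hbr : B.toScheme.basicOpen (b * r) = B.toScheme.basicOpen a' := by
      rw [Scheme.basicOpen_mul, inf_comm]
      have h1 := congrArg B.toScheme.basicOpen hb
      simp only [TopCat.Presheaf.restrictOpenCommRingCat_apply, Scheme.basicOpen_res, Scheme.basicOpen_mul] at h1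
      rw [h1]
      refine inf_eq_right.2 ?_
      rcases Nat.eq_zero_or_pos n with rfl | hn
      · rw [pow_zero, Scheme.basicOpen_of_isUnit _ isUnit_one]
        exact B.toScheme.basicOpen_le a'
      · rw [Scheme.basicOpen_pow _ _ hn]
        exact fun y hy => (B.toScheme.basicOpen_res r _).ge ⟨B.toScheme.basicOpen_le a' hy, B.toScheme.basicOpen_le a' hy⟩
    exact ⟨b * r, by rw [hbr, ha']; exact ⟨haa, hxa⟩⟩
  have hPB : ∀ q ∈ Ps, q ∈ B := fun q hq => by
    obtain ⟨z, hz, hqz⟩ := hP₀ q hq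
    exact hqz.mem_open B.isOpen (Opens.mem_iSup.2 ⟨⟨z, hz⟩, (ht _).ge
      ⟨Opens.mem_iSup.2 ⟨⟨z, hz⟩, hqC _⟩, hzs _⟩⟩)
  -- prime avoidance in a quasi-affine scheme
  let j := B.toScheme.toSpecΓ
  let T : Set (Spec Γ(B.toScheme, ⊤)) := j '' {x : B | x.1 ∈ Ps}
  have hT : T.Finite := (Ps.finite_toSet.preimage Subtype.val_injective.injOn).image j
  rcases Ps.eq_empty_or_nonempty with rfl | ⟨q₀, hq₀⟩
  · exact ⟨⊥, isAffineOpen_bot X, by simp⟩
  let C : Set (Spec Γ(B.toScheme, ⊤)) := (Set.range j)ᶜ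
  have hC : IsClosed C := j.isOpenEmbedding.isOpen_range.isClosed_compl
  have hns : ¬ ((PrimeSpectrum.vanishingIdeal C : Ideal Γ(B.toScheme, ⊤)) : Set Γ(B.toScheme, ⊤)) ⊆
      ⋃ p ∈ T, (p.asIdeal : Set Γ(B.toScheme, ⊤)) := by
    rw [Ideal.subset_union_prime_finite hT (j ⟨q₀, hPB q₀ hq₀⟩) (j ⟨q₀, hPB q₀ hq₀⟩) fun p _ _ _ => p.isPrime]
    rintro ⟨p, ⟨x, hx, rfl⟩, hle⟩
    have h : j x ∈ PrimeSpectrum.zeroLocus (PrimeSpectrum.vanishingIdeal C : Set Γ(B.toScheme, ⊤)) := hle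
    rw [PrimeSpectrum.zeroLocus_vanishingIdeal_eq_closure, hC.closure_eq] at h
    exact h ⟨x, rfl⟩
  obtain ⟨h, hhC, hhT⟩ := Set.not_subset.1 hns
  have hrange : PrimeSpectrum.basicOpen h ≤ j.opensRange := fun p hp => of_not_not fun hn =>
    hp ((PrimeSpectrum.mem_vanishingIdeal C h).1 hhC p hn)
  refine ⟨B.ι ''ᵁ (j ⁻¹ᵁ PrimeSpectrum.basicOpen h),
    ((IsAffineOpen.Spec_basicOpen h).preimage_of_isOpenImmersion j hrange).image_of_isOpenImmersion B.ι,
    fun q hq => ⟨⟨q, hPB q hq⟩, fun hmem => hhT (Set.mem_biUnion ⟨⟨q, hPB q hq⟩, hq, rfl⟩ hmem), rfl⟩⟩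

end Groth.L22.AffFin
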